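import Groth.Agent.GluePairLib.Main
import Groth.Agent.GluePairLib.BaseChange
import Groth.Agent.QAffLib.Basic
import Mathlib.RingTheory.Flat.Basic

/-!
# Morphisms from flat schemes to quasi-affine schemes glue along a glueing pair
-/

set_option autoImplicit false
set_option backward.isDefEq.respectTransparency false
set_option backward.isDefEq.respectTransparency.types false
set_option linter.style.haveILetI false
set_option maxHeartbeats 800000

universe u

open CategoryTheory CategoryTheory.Limits AlgebraicGeometry TopologicalSpace TensorProduct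

noncomputable section

namespace Groth.Agent.NonAbGlueLib

/-- Bijectivity of the map of quotients does not see how the ideal is written. -/
theorem bijective_congr {A A' : Type u} [CommRing A] [CommRing A'] (φ : A →+* A') {I J : Ideal A} (h : I = J)
    (hI : Function.Bijective (Ideal.quotientMap (Ideal.map φ I) φ Ideal.le_comap_map)) :
    Function.Bijective (Ideal.quotientMap (Ideal.map φ J) φ Ideal.le_comap_map) := by
  subst h; exact hI

/-- The torsion condition is stable under flat base change. -/
theorem htor_baseChange {A A' B : Type u} [CommRing A] [CommRing A'] [CommRing B] [Algebra A A'] [Algebra A B]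
    [Module.Flat A B] (t : A)
    (htor : ∀ a' : A', (∃ m : ℕ, algebraMap A A' t ^ m * a' = 0) →
      ∃! a : A, (∃ m : ℕ, t ^ m * a = 0) ∧ algebraMap A A' a = a')
    (b' : B ⊗[A] A') (hb' : ∃ m : ℕ, algebraMap B (B ⊗[A] A') (algebraMap A B t) ^ m * b' = 0) :
    ∃! b : B, (∃ m : ℕ, algebraMap A B t ^ m * b = 0) ∧ algebraMap B (B ⊗[A] A') b = b' := by
  have hpow : ∀ (m : ℕ) (x : B ⊗[A] A'), algebraMap B (B ⊗[A] A') (algebraMap A B t) ^ m * x = t ^ m • x :=
    fun m x => by rw [← IsScalarTower.algebraMap_apply, ← map_pow, Algebra.smul_def]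
  have hinj : ∀ a : A, (∃ m : ℕ, t ^ m * a = 0) → algebraMap A A' a = 0 → a = 0 := fun a ha h0 =>
    (htor 0 ⟨0, mul_zero _⟩).unique ⟨ha, h0⟩ ⟨⟨0, mul_zero _⟩, map_zero _⟩
  -- for each exponent, the kernels on `B` and on `B ⊗ A'` agree
  have key : ∀ m : ℕ, ∀ y : B ⊗[A] A', t ^ m • y = 0 →
      ∃ b : B, algebraMap A B t ^ m * b = 0 ∧ b ⊗ₜ[A] (1 : A') = y ∧
        ∀ c : B, algebraMap A B t ^ m * c = 0 → c ⊗ₜ[A] (1 : A') = y → c = b := by
    intro m y hy
    let μA : A →ₗ[A] A := LinearMap.lsmul A A (t ^ m)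
    let μA' : A' →ₗ[A] A' := LinearMap.lsmul A A' (t ^ m)
    let j : LinearMap.ker μA →ₗ[A] A := (LinearMap.ker μA).subtype
    let j' : LinearMap.ker μA →ₗ[A] A' := (Algebra.linearMap A A').comp j
    have hj' : Function.Injective j' := fun a b hab => by
      refine sub_eq_zero.1 (Subtype.ext (hinj ((a - b : LinearMap.ker μA) : A) ⟨m, (a - b).2⟩ ?_))
      show algebraMap A A' ((a : A) - b) = 0
      rw [map_sub, sub_eq_zero]
      exact hab
    have hex : Function.Exact j' μA' := fun a' => by
      refine ⟨fun h => ?_, ?_⟩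
      · obtain ⟨a, ⟨⟨k, hk⟩, ha⟩, -⟩ := htor a' ⟨m, by
          rw [← map_pow, ← Algebra.smul_def]
          exact h⟩
        refine ⟨⟨a, hinj (t ^ m * a) ⟨k, by rw [mul_left_comm, hk, mul_zero]⟩ ?_⟩, ha⟩
        rw [map_mul, ha, ← Algebra.smul_def]
        exact h
      · rintro ⟨a, rfl⟩
        show t ^ m • algebraMap A A' (a : A) = 0
        rw [Algebra.smul_def, ← map_mul, show t ^ m * (a : A) = 0 from a.2, map_zero]
    have h1 : Function.Injective (j.lTensor B) :=
      Module.Flat.lTensor_preserves_injective_linearMap _ Subtype.val_injective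
    have h1' : Function.Injective (j'.lTensor B) := Module.Flat.lTensor_preserves_injective_linearMap _ hj'
    have h2 := Module.Flat.lTensor_exact B (LinearMap.exact_subtype_ker_map μA)
    have h2' := Module.Flat.lTensor_exact B hex
    have hsm : ∀ {M : Type u} [AddCommGroup M] [Module A M] (z : B ⊗[A] M),
        (LinearMap.lsmul A M (t ^ m)).lTensor B z = t ^ m • z := fun {M} _ _ z => by
      induction z using TensorProduct.induction_on with
      | zero => rw [map_zero, smul_zero]
      | tmul b x => simp [TensorProduct.tmul_smul]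
      | add a b ha hb => rw [map_add, ha, hb, smul_add]
    obtain ⟨z, hz⟩ := (h2' y).1 ((hsm y).trans hy)
    have hcomp : ∀ w : B ⊗[A] LinearMap.ker μA,
        (TensorProduct.rid A B (j.lTensor B w)) ⊗ₜ[A] (1 : A') = j'.lTensor B w := fun w => by
      induction w using TensorProduct.induction_on with
      | zero => simp
      | tmul b a =>
        show ((a : A) • b) ⊗ₜ[A] (1 : A') = b ⊗ₜ[A] algebraMap A A' (a : A)
        rw [TensorProduct.smul_tmul, Algebra.algebraMap_eq_smul_one]
      | add a b ha hb => rw [map_add, map_add, map_add, TensorProduct.add_tmul, ha, hb]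
    have hker : ∀ w : B ⊗[A] LinearMap.ker μA,
        algebraMap A B t ^ m * TensorProduct.rid A B (j.lTensor B w) = 0 := fun w => by
      have := (hsm (j.lTensor B w)).symm.trans ((h2 (j.lTensor B w)).2 ⟨w, rfl⟩)
      have h0 := congrArg (TensorProduct.rid A B) this
      rw [map_smul, map_zero, Algebra.smul_def, map_pow] at h0
      exact h0
    refine ⟨_, hker z, (hcomp z).trans hz, fun c hc hcy => ?_⟩
    obtain ⟨w, hw⟩ := (h2 (c ⊗ₜ[A] (1 : A))).1 (by
      refine (hsm _).trans ((TensorProduct.rid A B).injective ?_)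
      rw [map_smul, map_zero, TensorProduct.rid_tmul, one_smul, Algebra.smul_def, map_pow, hc])
    have hc' : TensorProduct.rid A B (j.lTensor B w) = c := by rw [hw, TensorProduct.rid_tmul, one_smul]
    rw [← hc', h1' (((hcomp w).symm.trans (hc'.symm ▸ hcy)).trans hz.symm)]
  obtain ⟨m, hm⟩ := hb'
  obtain ⟨b, hb1, hb2, -⟩ := key m b' ((hpow m b').symm.trans hm)
  refine ⟨b, ⟨⟨m, hb1⟩, hb2⟩, ?_⟩
  rintro c ⟨⟨k, hk⟩, hc⟩
  have hb1' : algebraMap A B t ^ (m + k) * b = 0 := by rw [pow_add, mul_comm (algebraMap A B t ^ m), mul_assoc, hb1, mul_zero]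
  have hk' : algebraMap A B t ^ (m + k) * c = 0 := by rw [pow_add, mul_assoc, hk, mul_zero]
  obtain ⟨b₀, -, -, hu⟩ := key (m + k) b' (by rw [← hpow, pow_add, mul_comm (_ ^ m), mul_assoc, hm, mul_zero])
  exact (hu c hk' hc).trans (hu b hb1' hb2).symm

variable {A A' : Type u} [CommRing A] [CommRing A'] [Algebra A A'] (t : A)

/-- The morphism of spectra of the second ring. -/
abbrev jP : Spec (CommRingCat.of A') ⟶ Spec (CommRingCat.of A) := Spec.map (CommRingCat.ofHom (algebraMap A A'))

/-- The inclusion of the basic open. -/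
abbrev jU : Spec (CommRingCat.of (Localization.Away t)) ⟶ Spec (CommRingCat.of A) :=
  Spec.map (CommRingCat.ofHom (algebraMap A (Localization.Away t)))

/-- The intersection in the second spectrum. -/
abbrev kU : Spec (CommRingCat.of (Localization.Away (algebraMap A A' t))) ⟶ Spec (CommRingCat.of A') :=
  Spec.map (CommRingCat.ofHom (algebraMap A' (Localization.Away (algebraMap A A' t))))

/-- The intersection in the basic open. -/
abbrev kP : Spec (CommRingCat.of (Localization.Away (algebraMap A A' t))) ⟶ Spec (CommRingCat.of (Localization.Away t)) :=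
  Spec.map (CommRingCat.ofHom (Localization.awayMap (algebraMap A A') t))

theorem kU_jP : kU (A' := A') t ≫ jP = kP t ≫ jU t := by
  rw [← Spec.map_comp, ← Spec.map_comp, ← CommRingCat.ofHom_comp, ← CommRingCat.ofHom_comp]
  congr 2
  exact (IsLocalization.map_comp _).symm

variable (hq : ∀ m : ℕ, Function.Bijective (Ideal.quotientMap
    (Ideal.map (algebraMap A A') (Ideal.span {t} ^ m)) (algebraMap A A') Ideal.le_comap_map))
  (htor : ∀ a' : A', (∃ m : ℕ, algebraMap A A' t ^ m * a' = 0) →
    ∃! a : A, (∃ m : ℕ, t ^ m * a = 0) ∧ algebraMap A A' a = a')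

include hq htor in
/-- Points with values in a flat algebra glue. -/
theorem glue_affine {B : Type u} [CommRing B] [Algebra A B] [Module.Flat A B] {Z : Scheme.{u}} [Z.IsQuasiAffine]
    (q : Z ⟶ Spec (CommRingCat.of A)) :
    (∀ s₁ s₂ : Spec (CommRingCat.of B) ⟶ Z,
      s₁ ≫ q = Spec.map (CommRingCat.ofHom (algebraMap A B)) →
      s₂ ≫ q = Spec.map (CommRingCat.ofHom (algebraMap A B)) →
      pullback.fst (Spec.map (CommRingCat.ofHom (algebraMap A B))) (jP (A' := A')) ≫ s₁ =
        pullback.fst (Spec.map (CommRingCat.ofHom (algebraMap A B))) (jP (A' := A')) ≫ s₂ →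
      pullback.fst (Spec.map (CommRingCat.ofHom (algebraMap A B))) (jU t) ≫ s₁ =
        pullback.fst (Spec.map (CommRingCat.ofHom (algebraMap A B))) (jU t) ≫ s₂ → s₁ = s₂) ∧
    ∀ (x' : pullback (Spec.map (CommRingCat.ofHom (algebraMap A B))) (jP (A' := A')) ⟶ Z)
      (xt : pullback (Spec.map (CommRingCat.ofHom (algebraMap A B))) (jU t) ⟶ Z),
      x' ≫ q = pullback.snd _ _ ≫ jP → xt ≫ q = pullback.snd _ _ ≫ jU t →
      (∀ (W : Scheme.{u}) (a : W ⟶ pullback (Spec.map (CommRingCat.ofHom (algebraMap A B))) (jP (A' := A')))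
        (b : W ⟶ pullback (Spec.map (CommRingCat.ofHom (algebraMap A B))) (jU t))
        (c : W ⟶ Spec (CommRingCat.of (Localization.Away (algebraMap A A' t)))),
        a ≫ pullback.fst _ _ = b ≫ pullback.fst _ _ → a ≫ pullback.snd _ _ = c ≫ kU t →
          b ≫ pullback.snd _ _ = c ≫ kP t → a ≫ x' = b ≫ xt) →
      ∃ s : Spec (CommRingCat.of B) ⟶ Z, s ≫ q = Spec.map (CommRingCat.ofHom (algebraMap A B)) ∧
        pullback.fst _ _ ≫ s = x' ∧ pullback.fst _ _ ≫ s = xt := by
  let ι := Spec.map (CommRingCat.ofHom (algebraMap A B))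
  let B' := B ⊗[A] A'
  let tB := algebraMap A B t
  have hqB : ∀ m : ℕ, Function.Bijective (Ideal.quotientMap (Ideal.map (algebraMap B B') (Ideal.span {tB} ^ m))
      (algebraMap B B') Ideal.le_comap_map) := by
    intro m
    rcases Nat.eq_zero_or_pos m with rfl | hm
    · have h1 : Subsingleton (B ⧸ Ideal.span {tB} ^ 0) := Ideal.Quotient.subsingleton_iff.2 (by simp)
      have h2 : Subsingleton (B' ⧸ Ideal.map (algebraMap B B') (Ideal.span {tB} ^ 0)) :=
        Ideal.Quotient.subsingleton_iff.2 (by simp [Ideal.map_top])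
      exact ⟨fun _ _ _ => Subsingleton.elim _ _, fun y => ⟨0, Subsingleton.elim _ _⟩⟩
    exact bijective_congr (algebraMap B B') (Ideal.span_singleton_pow tB m).symm
      (GluePairLib.quotPowBijective_baseChange (R := A) (R' := A') (f := t) B
        (fun n _ => bijective_congr (algebraMap A A') (Ideal.span_singleton_pow t n) (hq n)) m hm)
  have htorB : ∀ b' : B', (∃ m : ℕ, algebraMap B B' tB ^ m * b' = 0) →
      ∃! b : B, (∃ m : ℕ, tB ^ m * b = 0) ∧ algebraMap B B' b = b' := fun b' hb' => htor_baseChange t htor b' hb'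
  -- the two base changes in terms of spectra
  let e' : Spec (CommRingCat.of B') ⟶ pullback ι (jP (A' := A')) := (pullbackSpecIso A B A').inv
  have he'1 : e' ≫ pullback.fst _ _ = Spec.map (CommRingCat.ofHom (algebraMap B B')) := pullbackSpecIso_inv_fst A B A'
  have he'2 : e' ≫ pullback.snd _ _ = Spec.map (CommRingCat.ofHom Algebra.TensorProduct.includeRight.toRingHom) :=
    pullbackSpecIso_inv_snd A B A'
  let et : Spec (CommRingCat.of (Localization.Away tB)) ⟶ pullback ι (jU t) :=
    pullback.lift (Spec.map (CommRingCat.ofHom (algebraMap B (Localization.Away tB))))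
      (Spec.map (CommRingCat.ofHom (Localization.awayMap (algebraMap A B) t))) (by
        rw [← Spec.map_comp, ← Spec.map_comp, ← CommRingCat.ofHom_comp, ← CommRingCat.ofHom_comp]
        congr 2
        exact (IsLocalization.map_comp _).symm)
  haveI : IsOpenImmersion (jU t) := IsOpenImmersion.of_isLocalization t
  haveI : IsOpenImmersion (Spec.map (CommRingCat.ofHom (algebraMap B (Localization.Away tB)))) :=
    IsOpenImmersion.of_isLocalization tB
  haveI : IsIso et := by
    haveI : IsOpenImmersion (et ≫ pullback.fst ι (jU t)) := by rw [pullback.lift_fst]; infer_instance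
    haveI : IsOpenImmersion et := IsOpenImmersion.of_comp et (pullback.fst ι (jU t))
    haveI : Surjective et := ⟨fun z => by
      obtain ⟨y, hy⟩ : pullback.fst ι (jU t) z ∈
          Set.range (Spec.map (CommRingCat.ofHom (algebraMap B (Localization.Away tB)))) := by
        show _ ∈ Set.range (PrimeSpectrum.comap (algebraMap B (Localization.Away tB)))
        rw [PrimeSpectrum.localization_away_comap_range (Localization.Away tB) tB]
        have h1 : jU t (pullback.snd ι (jU t) z) ∈ PrimeSpectrum.basicOpen t := by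
          rw [← SetLike.mem_coe, ← PrimeSpectrum.localization_away_comap_range (Localization.Away t) t]
          exact ⟨_, rfl⟩
        rw [← Scheme.Hom.comp_apply, ← pullback.condition, Scheme.Hom.comp_apply] at h1
        exact h1
      exact ⟨y, (pullback.fst ι (jU t)).isOpenEmbedding.injective (by
        rw [← Scheme.Hom.comp_apply, pullback.lift_fst]; exact hy)⟩⟩
    exact (isIso_iff_isOpenImmersion_and_surjective _).mpr ⟨inferInstance, inferInstance⟩
  let ZB := pullback q ι
  haveI : IsAffineHom (pullback.fst q ι) :=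
    MorphismProperty.pullback_fst (P := @IsAffineHom) q ι inferInstance
  haveI : ZB.IsQuasiAffine := QAffLib.qa_source (pullback.fst q ι) ⟨inferInstance, fun V hV => by
    haveI : IsAffine (pullback.fst q ι ⁻¹ᵁ V : Scheme.{u}) := hV.preimage _
    infer_instance⟩
  obtain ⟨huniq, hex⟩ := GluePairLib.main (algebraMap B B') tB hqB htorB ZB (pullback.snd q ι)
  refine ⟨fun s₁ s₂ hs₁ hs₂ e1 e2 => ?_, fun x' xt hx' hxt hc => ?_⟩
  · let l : ∀ s : Spec (CommRingCat.of B) ⟶ Z, s ≫ q = ι → (Spec (CommRingCat.of B) ⟶ ZB) := fun s hs =>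
      pullback.lift s (𝟙 _) (by rw [hs, Category.id_comp])
    have := huniq (l s₁ hs₁) (l s₂ hs₂) (by
      apply pullback.hom_ext
      · simp only [l, Category.assoc, pullback.lift_fst, ← he'1]
        rw [e1]
      · simp only [l, Category.assoc, pullback.lift_snd]) (by
      apply pullback.hom_ext
      · simp only [l, Category.assoc, pullback.lift_fst]
        rw [show Spec.map (CommRingCat.ofHom (algebraMap B (Localization.Away tB))) = et ≫ pullback.fst _ _ from
          (pullback.lift_fst _ _ _).symm, Category.assoc, Category.assoc, e2]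
      · simp only [l, Category.assoc, pullback.lift_snd])
    simpa [l] using congrArg (· ≫ pullback.fst q ι) this
  obtain ⟨s, hs, hs', hst⟩ := hex
    (pullback.lift (e' ≫ x') (Spec.map (CommRingCat.ofHom (algebraMap B B')))
      (by rw [Category.assoc, hx', ← pullback.condition, ← Category.assoc, he'1]))
    (pullback.lift (et ≫ xt) (Spec.map (CommRingCat.ofHom (algebraMap B (Localization.Away tB))))
      (by rw [Category.assoc, hxt, ← pullback.condition, ← Category.assoc, pullback.lift_fst]))
    (pullback.lift_snd _ _ _) (pullback.lift_snd _ _ _) (by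
      apply pullback.hom_ext
      · simp only [Category.assoc, pullback.lift_fst]
        rw [← Category.assoc, ← Category.assoc]
        have hu : IsUnit ((algebraMap B' (Localization.Away (algebraMap B B' tB))).comp
            (Algebra.TensorProduct.includeRight : A' →ₐ[A] B').toRingHom (algebraMap A A' t)) := by
          rw [RingHom.comp_apply, show (Algebra.TensorProduct.includeRight : A' →ₐ[A] B').toRingHom (algebraMap A A' t) =
            algebraMap B B' tB from (AlgHom.commutes _ t).trans (IsScalarTower.algebraMap_apply A B B' t)]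
          exact IsLocalization.Away.algebraMap_isUnit _
        refine hc _ _ _ (Spec.map (CommRingCat.ofHom (IsLocalization.Away.lift (algebraMap A A' t) hu))) ?_ ?_ ?_
        · rw [Category.assoc, Category.assoc, he'1, pullback.lift_fst, ← Spec.map_comp, ← Spec.map_comp,
            ← CommRingCat.ofHom_comp, ← CommRingCat.ofHom_comp]
          congr 2
          exact (IsLocalization.map_comp _).symm
        · rw [Category.assoc, he'2, ← Spec.map_comp, ← Spec.map_comp, ← CommRingCat.ofHom_comp, ← CommRingCat.ofHom_comp]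
          congr 2
          exact (IsLocalization.lift_comp _).symm
        · rw [Category.assoc, pullback.lift_snd, ← Spec.map_comp, ← Spec.map_comp, ← CommRingCat.ofHom_comp,
            ← CommRingCat.ofHom_comp]
          congr 2
          refine IsLocalization.ringHom_ext (Submonoid.powers t) (RingHom.ext fun a => ?_)
          simp only [RingHom.comp_apply, Localization.awayMap, IsLocalization.Away.map, IsLocalization.map_eq,
            IsLocalization.Away.lift_eq]
          erw [IsLocalization.map_eq, IsLocalization.map_eq]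
          exact (congrArg (algebraMap B' _) ((AlgHom.commutes (Algebra.TensorProduct.includeRight : A' →ₐ[A] B') a).trans
            (IsScalarTower.algebraMap_apply A B B' a))).symm
      · simp only [Category.assoc, pullback.lift_snd, ← Spec.map_comp, ← CommRingCat.ofHom_comp]
        congr 2
        exact (IsLocalization.map_comp _).symm)
  refine ⟨s ≫ pullback.fst q ι, by rw [Category.assoc, pullback.condition, ← Category.assoc, hs, Category.id_comp],
    ?_, ?_⟩
  · rw [← cancel_epi e', ← Category.assoc, he'1, ← Category.assoc, hs', pullback.lift_fst]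
  · rw [← cancel_epi et, ← Category.assoc, pullback.lift_fst, ← Category.assoc, hst, pullback.lift_fst]

variable {X : Over (Spec (CommRingCat.of A))} [Flat X.hom] {Z : Scheme.{u}} [Z.IsQuasiAffine]
  (q : Z ⟶ Spec (CommRingCat.of A))

theorem exists_algebra (V : X.left.Opens) (hV : IsAffineOpen V) :
    ∃ (_ : Algebra A Γ(X.left, V)), Spec.map (CommRingCat.ofHom (algebraMap A Γ(X.left, V))) = hV.fromSpec ≫ X.hom ∧
      Module.Flat A Γ(X.left, V) := by
  let ι : CommRingCat.of A ⟶ Γ(X.left, V) := Spec.preimage (hV.fromSpec ≫ X.hom)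
  letI := ι.hom.toAlgebra
  refine ⟨ι.hom.toAlgebra, Spec.map_preimage _, ?_⟩
  have h : Flat (Spec.map ι) := by
    rw [Spec.map_preimage]
    infer_instance
  rw [HasRingHomProperty.Spec_iff (P := @Flat)] at h
  exact h

include hq htor in
/-- Two morphisms agreeing on both parts are equal. -/
theorem hom_ext_glue (f g : X.left ⟶ Z) (hf : f ≫ q = X.hom) (hg : g ≫ q = X.hom)
    (h1 : pullback.fst X.hom (jP (A' := A')) ≫ f = pullback.fst X.hom jP ≫ g)
    (h2 : pullback.fst X.hom (jU t) ≫ f = pullback.fst X.hom (jU t) ≫ g) : f = g := by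
  refine X.left.affineCover.hom_ext _ _ fun i => ?_
  let c := X.left.affineCover.f i
  obtain ⟨hV⟩ := (⟨isAffineOpen_opensRange c⟩ : Nonempty (IsAffineOpen c.opensRange))
  obtain ⟨alg, halg, hfl⟩ := exists_algebra (X := X) _ hV
  letI := alg
  haveI := hfl
  have hr : Set.range c ⊆ Set.range hV.fromSpec := by rw [hV.range_fromSpec]; rfl
  show c ≫ f = c ≫ g
  rw [← IsOpenImmersion.lift_fac hV.fromSpec c hr, Category.assoc, Category.assoc]
  congr 1
  refine (glue_affine t hq htor q).1 _ _ (by rw [Category.assoc, hf, halg]) (by rw [Category.assoc, hg, halg]) ?_ ?_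
  · have hw : pullback.fst (Spec.map (CommRingCat.ofHom (algebraMap A Γ(X.left, c.opensRange)))) (jP (A' := A')) ≫
        hV.fromSpec ≫ X.hom = pullback.snd _ _ ≫ jP := by rw [← halg, pullback.condition]
    have := congrArg (pullback.lift (pullback.fst _ _ ≫ hV.fromSpec) (pullback.snd _ _) (by rw [Category.assoc, hw]) ≫ ·) h1
    simpa [pullback.lift_fst_assoc] using this
  · have hw : pullback.fst (Spec.map (CommRingCat.ofHom (algebraMap A Γ(X.left, c.opensRange)))) (jU t) ≫
        hV.fromSpec ≫ X.hom = pullback.snd _ _ ≫ jU t := by rw [← halg, pullback.condition]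
    have := congrArg (pullback.lift (pullback.fst _ _ ≫ hV.fromSpec) (pullback.snd _ _) (by rw [Category.assoc, hw]) ≫ ·) h2
    simpa [pullback.lift_fst_assoc] using this

include hq htor in
/-- Morphisms on the two parts agreeing on the overlap glue. -/
theorem exists_glue (f' : pullback X.hom (jP (A' := A')) ⟶ Z) (fU : pullback X.hom (jU t) ⟶ Z)
    (hf' : f' ≫ q = pullback.snd _ _ ≫ jP) (hfU : fU ≫ q = pullback.snd _ _ ≫ jU t)
    (hc : ∀ (W : Scheme.{u}) (a : W ⟶ pullback X.hom (jP (A' := A'))) (b : W ⟶ pullback X.hom (jU t))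
      (c : W ⟶ Spec (CommRingCat.of (Localization.Away (algebraMap A A' t)))),
      a ≫ pullback.fst _ _ = b ≫ pullback.fst _ _ → a ≫ pullback.snd _ _ = c ≫ kU t →
        b ≫ pullback.snd _ _ = c ≫ kP t → a ≫ f' = b ≫ fU) :
    ∃ f : X.left ⟶ Z, f ≫ q = X.hom ∧ pullback.fst _ _ ≫ f = f' ∧ pullback.fst _ _ ≫ f = fU := by
  let 𝒰 : X.left.OpenCover := X.left.openCoverOfIsOpenCover (fun V : X.left.affineOpens => (V.1 : X.left.Opens))
    (top_le_iff.mp fun z _ => by
      obtain ⟨V, hV, hzV, -⟩ := exists_isAffineOpen_mem_and_subset (U := ⊤) (show z ∈ (⊤ : X.left.Opens) from trivial)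
      exact Opens.mem_iSup.mpr ⟨⟨V, hV⟩, hzV⟩)
  have hloc : ∀ V : X.left.affineOpens, ∃ s : (V.1 : Scheme.{u}) ⟶ Z, s ≫ q = V.1.ι ≫ X.hom ∧
      (∀ (W : Scheme.{u}) (w : W ⟶ V.1) (a : W ⟶ pullback X.hom (jP (A' := A'))),
        a ≫ pullback.fst _ _ = w ≫ V.1.ι → w ≫ s = a ≫ f') ∧
      (∀ (W : Scheme.{u}) (w : W ⟶ V.1) (b : W ⟶ pullback X.hom (jU t)),
        b ≫ pullback.fst _ _ = w ≫ V.1.ι → w ≫ s = b ≫ fU) := fun V => by
    obtain ⟨alg, halg, hfl⟩ := exists_algebra (X := X) V.1 V.2
    letI := alg
    haveI := hfl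
    let ι := Spec.map (CommRingCat.ofHom (algebraMap A Γ(X.left, V.1)))
    let lP : pullback ι (jP (A' := A')) ⟶ pullback X.hom (jP (A' := A')) :=
      pullback.lift (pullback.fst _ _ ≫ V.2.fromSpec) (pullback.snd _ _)
        (by rw [Category.assoc, ← halg, pullback.condition])
    let lU : pullback ι (jU t) ⟶ pullback X.hom (jU t) :=
      pullback.lift (pullback.fst _ _ ≫ V.2.fromSpec) (pullback.snd _ _)
        (by rw [Category.assoc, ← halg, pullback.condition])
    obtain ⟨s, hs, hsP, hsU⟩ := (glue_affine t hq htor q).2 (lP ≫ f') (lU ≫ fU)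
      (by rw [Category.assoc, hf', pullback.lift_snd_assoc]) (by rw [Category.assoc, hfU, pullback.lift_snd_assoc])
      fun W a b c e1 e2 e3 => by
        have := hc W (a ≫ lP) (b ≫ lU) c
          (by simp only [lP, lU, Category.assoc, pullback.lift_fst]; rw [reassoc_of% e1])
          (by simpa only [lP, Category.assoc, pullback.lift_snd] using e2)
          (by simpa only [lU, Category.assoc, pullback.lift_snd] using e3)
        simpa only [Category.assoc] using this
    refine ⟨V.2.isoSpec.hom ≫ s, ?_, fun W w a ha => ?_, fun W w b hb => ?_⟩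
    · rw [Category.assoc, hs, halg, ← Category.assoc, IsAffineOpen.isoSpec_hom, IsAffineOpen.toSpecΓ_fromSpec]
    all_goals
      have hcond : (w ≫ V.2.isoSpec.hom) ≫ ι = w ≫ V.1.ι ≫ X.hom := by
        show _ ≫ Spec.map _ = _
        rw [halg, Category.assoc, ← Category.assoc V.2.isoSpec.hom, IsAffineOpen.isoSpec_hom,
          IsAffineOpen.toSpecΓ_fromSpec]
    · have hc2 : (w ≫ V.2.isoSpec.hom) ≫ ι = (a ≫ pullback.snd _ _) ≫ jP := by
        rw [hcond, ← Category.assoc, ← ha, Category.assoc, Category.assoc, pullback.condition]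
      have hla : pullback.lift (w ≫ V.2.isoSpec.hom) (a ≫ pullback.snd _ _) hc2 ≫ lP = a := by
        apply pullback.hom_ext
        · simp only [lP, Category.assoc, pullback.lift_fst, pullback.lift_fst_assoc]
          rw [IsAffineOpen.isoSpec_hom, IsAffineOpen.toSpecΓ_fromSpec, ha]
        · simp only [lP, Category.assoc, pullback.lift_snd]
      calc w ≫ V.2.isoSpec.hom ≫ s = pullback.lift _ _ hc2 ≫ pullback.fst _ _ ≫ s := by
            rw [pullback.lift_fst_assoc, Category.assoc]
        _ = a ≫ f' := by rw [hsP, ← Category.assoc, hla]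
    · have hc2 : (w ≫ V.2.isoSpec.hom) ≫ ι = (b ≫ pullback.snd _ _) ≫ jU t := by
        rw [hcond, ← Category.assoc, ← hb, Category.assoc, Category.assoc, pullback.condition]
      have hlb : pullback.lift (w ≫ V.2.isoSpec.hom) (b ≫ pullback.snd _ _) hc2 ≫ lU = b := by
        apply pullback.hom_ext
        · simp only [lU, Category.assoc, pullback.lift_fst, pullback.lift_fst_assoc]
          rw [IsAffineOpen.isoSpec_hom, IsAffineOpen.toSpecΓ_fromSpec, hb]
        · simp only [lU, Category.assoc, pullback.lift_snd]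
      calc w ≫ V.2.isoSpec.hom ≫ s = pullback.lift _ _ hc2 ≫ pullback.fst _ _ ≫ s := by
            rw [pullback.lift_fst_assoc, Category.assoc]
        _ = b ≫ fU := by rw [hsU, ← Category.assoc, hlb]
  choose s hs hsP hsU using hloc
  have hagree : ∀ V V' : X.left.affineOpens,
      pullback.fst V.1.ι V'.1.ι ≫ s V = pullback.snd V.1.ι V'.1.ι ≫ s V' := fun V V' => by
    let O : Over (Spec (CommRingCat.of A)) := Over.mk (pullback.fst V.1.ι V'.1.ι ≫ V.1.ι ≫ X.hom)
    haveI : Flat O.hom := inferInstanceAs (Flat (pullback.fst V.1.ι V'.1.ι ≫ V.1.ι ≫ X.hom))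
    refine hom_ext_glue t hq htor (X := O) q _ _ ?_ ?_ ?_ ?_
    · show (pullback.fst V.1.ι V'.1.ι ≫ s V) ≫ q = _
      rw [Category.assoc, hs]; rfl
    · show (pullback.snd V.1.ι V'.1.ι ≫ s V') ≫ q = _
      rw [Category.assoc, hs, ← Category.assoc, ← pullback.condition, Category.assoc]; rfl
    · let a : pullback O.hom (jP (A' := A')) ⟶ pullback X.hom (jP (A' := A')) :=
        pullback.lift (pullback.fst O.hom jP ≫ pullback.fst V.1.ι V'.1.ι ≫ V.1.ι) (pullback.snd _ _)
          (by rw [← pullback.condition]; simp [O])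
      show pullback.fst O.hom jP ≫ pullback.fst V.1.ι V'.1.ι ≫ s V = pullback.fst O.hom jP ≫ pullback.snd V.1.ι V'.1.ι ≫ s V'
      rw [← Category.assoc, hsP V _ _ a (by simp [a]), ← Category.assoc,
        hsP V' _ _ a (by simp [a, pullback.condition])]
    · let b : pullback O.hom (jU t) ⟶ pullback X.hom (jU t) :=
        pullback.lift (pullback.fst O.hom (jU t) ≫ pullback.fst V.1.ι V'.1.ι ≫ V.1.ι) (pullback.snd _ _)
          (by rw [← pullback.condition]; simp [O])
      show pullback.fst O.hom (jU t) ≫ pullback.fst V.1.ι V'.1.ι ≫ s V =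
        pullback.fst O.hom (jU t) ≫ pullback.snd V.1.ι V'.1.ι ≫ s V'
      rw [← Category.assoc, hsU V _ _ b (by simp [b]), ← Category.assoc,
        hsU V' _ _ b (by simp [b, pullback.condition])]
  let f := 𝒰.glueMorphisms s hagree
  have hf : ∀ V : X.left.affineOpens, V.1.ι ≫ f = s V := fun V => 𝒰.ι_glueMorphisms s hagree V
  refine ⟨f, 𝒰.hom_ext _ _ fun V => ?_, ?_, ?_⟩
  · show V.1.ι ≫ f ≫ q = V.1.ι ≫ X.hom
    rw [← Category.assoc, hf, hs]
  · refine Scheme.Cover.hom_ext (𝒰.pullback₁ (pullback.fst X.hom jP)) _ _ fun V => ?_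
    show pullback.fst _ (𝒰.f V) ≫ pullback.fst _ _ ≫ f = pullback.fst _ (𝒰.f V) ≫ f'
    rw [reassoc_of% (pullback.condition (f := pullback.fst X.hom (jP (A' := A'))) (g := 𝒰.f V))]
    exact (congrArg (pullback.snd _ _ ≫ ·) (hf V)).trans (hsP V _ _ _ pullback.condition)
  · refine Scheme.Cover.hom_ext (𝒰.pullback₁ (pullback.fst X.hom (jU t))) _ _ fun V => ?_
    show pullback.fst _ (𝒰.f V) ≫ pullback.fst _ _ ≫ f = pullback.fst _ (𝒰.f V) ≫ fU
    rw [reassoc_of% (pullback.condition (f := pullback.fst X.hom (jU t)) (g := 𝒰.f V))]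
    exact (congrArg (pullback.snd _ _ ≫ ·) (hf V)).trans (hsU V _ _ _ pullback.condition)

end Groth.Agent.NonAbGlueLib
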