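import Groth.Agent.NonAbGlueLib.Torsor

/-!
# Morphisms over the base glue; equivariance
-/

set_option autoImplicit false
set_option backward.isDefEq.respectTransparency false
set_option backward.isDefEq.respectTransparency.types false
set_option linter.style.haveILetI false
set_option maxHeartbeats 800000

universe u

open CategoryTheory CategoryTheory.Limits MonoidalCategory CartesianMonoidalCategory MonObj AlgebraicGeometry

noncomputable section

namespace Groth.Agent.NonAbGlueLib

variable {A A' : Type u} [CommRing A] [CommRing A'] [Algebra A A'] (t : A)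
  (hq : ∀ m : ℕ, Function.Bijective (Ideal.quotientMap
    (Ideal.map (algebraMap A A') (Ideal.span {t} ^ m)) (algebraMap A A') Ideal.le_comap_map))
  (htor : ∀ a' : A', (∃ m : ℕ, algebraMap A A' t ^ m * a' = 0) →
    ∃! a : A, (∃ m : ℕ, t ^ m * a = 0) ∧ algebraMap A A' a = a')
  {X Z : Over (Spec (CommRingCat.of A))} [Flat X.hom] [Z.left.IsQuasiAffine]

include hq htor in
theorem over_hom_ext (f g : X ⟶ Z)
    (h1 : (Over.pullback (jP (A' := A'))).map f = (Over.pullback (jP (A' := A'))).map g)
    (h2 : (Over.pullback (jU t)).map f = (Over.pullback (jU t)).map g) : f = g := by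
  refine Over.OverMorphism.ext (hom_ext_glue t hq htor Z.hom f.left g.left (Over.w f) (Over.w g) ?_ ?_)
  · have := congrArg (fun m => m.left ≫ pullback.fst Z.hom _) h1
    rwa [ActBC.pullback_map_left_fst, ActBC.pullback_map_left_fst] at this
  · have := congrArg (fun m => m.left ≫ pullback.fst Z.hom _) h2
    rwa [ActBC.pullback_map_left_fst, ActBC.pullback_map_left_fst] at this

include hq htor in
theorem exists_over_glue (f' : Red.bc (jP (A' := A')) X ⟶ Red.bc (jP (A' := A')) Z)
    (fU : Red.bc (jU t) X ⟶ Red.bc (jU t) Z)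
    (hc : ∀ (W : Scheme.{u}) (a : W ⟶ pullback X.hom (jP (A' := A'))) (b : W ⟶ pullback X.hom (jU t))
      (c : W ⟶ Spec (CommRingCat.of (Localization.Away (algebraMap A A' t)))),
      a ≫ pullback.fst _ _ = b ≫ pullback.fst _ _ → a ≫ pullback.snd _ _ = c ≫ kU t →
        b ≫ pullback.snd _ _ = c ≫ kP t →
          a ≫ f'.left ≫ pullback.fst Z.hom _ = b ≫ fU.left ≫ pullback.fst Z.hom _) :
    ∃ f : X ⟶ Z, (Over.pullback (jP (A' := A'))).map f = f' ∧ (Over.pullback (jU t)).map f = fU := by
  obtain ⟨f, hf, h1, h2⟩ := exists_glue t hq htor (X := X) Z.hom (f'.left ≫ pullback.fst Z.hom _)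
    (fU.left ≫ pullback.fst Z.hom _)
    (by rw [Category.assoc, pullback.condition, ← Category.assoc]; exact congrArg (fun m => m ≫ _) (Over.w f'))
    (by rw [Category.assoc, pullback.condition, ← Category.assoc]; exact congrArg (fun m => m ≫ _) (Over.w fU)) hc
  refine ⟨Over.homMk f hf, ?_, ?_⟩
  · refine Over.OverMorphism.ext (pullback.hom_ext ?_ ((Over.w _).trans (Over.w f').symm))
    rw [ActBC.pullback_map_left_fst]
    exact h1
  · refine Over.OverMorphism.ext (pullback.hom_ext ?_ ((Over.w _).trans (Over.w fU).symm))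
    rw [ActBC.pullback_map_left_fst]
    exact h2

include hq htor in
theorem existsUnique_equivIso (G : Over (Spec (CommRingCat.of A))) [GrpObj G] [Flat G.hom] [G.left.IsQuasiAffine]
    (h : kP (A' := A') t ≫ jU t = kU t ≫ jP)
    (P P' : NonAbH1.TorsorSch G Scheme.fppfPrecoverage)
    (αU : NonAbH1.EquivIso (P.act.bc (jU t)) (P'.act.bc (jU t)))
    (α' : NonAbH1.EquivIso (P.act.bc (jP (A' := A'))) (P'.act.bc (jP (A' := A'))))
    (hagree : (NonAbH1.EquivIso.bc (kP (A' := A') t) αU).iso.hom ≫ (ActBC.bcCompIso (kP (A' := A') t) (jU t) P'.X h).hom =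
      (ActBC.bcCompIso (kP (A' := A') t) (jU t) P.X h).hom ≫ (ActBC.bcCompIso (kU t) jP P.X rfl).inv ≫
        (NonAbH1.EquivIso.bc (kU t) α').iso.hom ≫ (ActBC.bcCompIso (kU t) jP P'.X rfl).hom) :
    ∃! α : NonAbH1.EquivIso P.act P'.act,
      (NonAbH1.EquivIso.bc (jU t) α).iso = αU.iso ∧ (NonAbH1.EquivIso.bc (jP (A' := A')) α).iso = α'.iso := by
  haveI := isQuasiAffine_of_torsor P
  haveI := isQuasiAffine_of_torsor P'
  haveI := flat_of_torsor P
  haveI := flat_of_torsor P'
  haveI : Flat (G ⊗ P.X).hom := by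
    rw [Over.tensorObj_hom]; infer_instance
  -- the two isomorphisms agree on the overlap
  have key : ∀ (W : Scheme.{u}) (a : W ⟶ pullback P.X.hom (jP (A' := A'))) (b : W ⟶ pullback P.X.hom (jU t))
      (c : W ⟶ Spec (CommRingCat.of (Localization.Away (algebraMap A A' t)))),
      a ≫ pullback.fst _ _ = b ≫ pullback.fst _ _ → a ≫ pullback.snd _ _ = c ≫ kU t →
      b ≫ pullback.snd _ _ = c ≫ kP t →
        a ≫ α'.iso.hom.left ≫ pullback.fst P'.X.hom _ = b ≫ αU.iso.hom.left ≫ pullback.fst P'.X.hom _ := by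
    intro W a b c e1 e2 e3
    let ra : W ⟶ (Red.bc (kU t) (Red.bc (jP (A' := A')) P.X)).left := pullback.lift a c e2
    let rb : W ⟶ (Red.bc (kP (A' := A') t) (Red.bc (jU t) P.X)).left := pullback.lift b c e3
    have hr : rb ≫ (ActBC.bcCompIso _ _ P.X h).hom.left = ra ≫ (ActBC.bcCompIso _ _ P.X rfl).hom.left := by
      apply pullback.hom_ext
      · simp only [Category.assoc, ActBC.bcCompIso_hom_left_fst, ra, rb, pullback.lift_fst_assoc]
        exact e1.symm
      · simp only [Category.assoc, ActBC.bcCompIso_hom_left_snd, ra, rb, pullback.lift_snd]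
    have h0 := congrArg (fun m => rb ≫ m.left ≫ pullback.fst P'.X.hom _) hagree
    simp only [Over.comp_left, Category.assoc, ActBC.bcCompIso_hom_left_fst] at h0
    rw [reassoc_of% hr, ← Over.comp_left_assoc, Iso.hom_inv_id] at h0
    simp only [Over.id_left, Category.id_comp, NonAbH1.EquivIso.bc, Functor.mapIso_hom, Category.assoc,
      ActBC.pullback_map_left_fst_assoc] at h0
    simp only [ra, rb, pullback.lift_fst_assoc] at h0
    exact h0.symm
  obtain ⟨f, hf', hfU⟩ := exists_over_glue t hq htor (X := P.X) (Z := P'.X) α'.iso.hom αU.iso.hom key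
  obtain ⟨g, hg', hgU⟩ := exists_over_glue t hq htor (X := P'.X) (Z := P.X) α'.iso.inv αU.iso.inv
    fun W a b c e1 e2 e3 => by
      let a₁ : W ⟶ pullback P.X.hom (jP (A' := A')) := a ≫ α'.iso.inv.left
      have hs1 : a₁ ≫ pullback.snd _ _ = c ≫ kU t := by
        rw [← e2, Category.assoc]; exact congrArg _ (Over.w α'.iso.inv)
      let b₂ : W ⟶ pullback P.X.hom (jU t) := pullback.lift (a₁ ≫ pullback.fst _ _) (c ≫ kP t) (by
        rw [Category.assoc, pullback.condition, reassoc_of% hs1, Category.assoc, kU_jP])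
      have hk := key W a₁ b₂ c (pullback.lift_fst _ _ _).symm hs1 (pullback.lift_snd _ _ _)
      have hb : b₂ ≫ αU.iso.hom.left = b := by
        apply pullback.hom_ext
        · rw [Category.assoc, ← hk, ← e1]
          show (a ≫ α'.iso.inv.left) ≫ α'.iso.hom.left ≫ _ = _
          rw [Category.assoc, ← Over.comp_left_assoc, Iso.inv_hom_id]
          exact congrArg _ (Category.id_comp _)
        · rw [Category.assoc, e3]
          exact (congrArg _ (Over.w αU.iso.hom)).trans (pullback.lift_snd _ _ _)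
      rw [← hb, Category.assoc, ← Over.comp_left_assoc, Iso.hom_inv_id]
      exact (((congrArg (b₂ ≫ ·) (Category.id_comp _)).trans (pullback.lift_fst _ _ _)).trans (Category.assoc _ _ _)).symm
  have hfg : f ≫ g = 𝟙 P.X := over_hom_ext t hq htor _ _
    (by rw [Functor.map_comp, hf', hg', Iso.hom_inv_id, CategoryTheory.Functor.map_id])
    (by rw [Functor.map_comp, hfU, hgU, Iso.hom_inv_id, CategoryTheory.Functor.map_id])
  have hgf : g ≫ f = 𝟙 P'.X := over_hom_ext t hq htor _ _
    (by rw [Functor.map_comp, hf', hg', Iso.inv_hom_id, CategoryTheory.Functor.map_id])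
    (by rw [Functor.map_comp, hfU, hgU, Iso.inv_hom_id, CategoryTheory.Functor.map_id])
  have hbc : ∀ {S' : Scheme.{u}} (j : S' ⟶ Spec (CommRingCat.of A)) (β : NonAbH1.EquivIso (P.act.bc j) (P'.act.bc j)),
      (Over.pullback j).map f = β.iso.hom →
      (Over.pullback j).map (P.act.act ≫ f) = (Over.pullback j).map ((G ◁ f) ≫ P'.act.act) := fun j β hj => by
    have hμ := Functor.LaxMonoidal.μ_natural_right (F := Over.pullback j) G f
    rw [← cancel_epi (Functor.LaxMonoidal.μ (Over.pullback j) G P.X), Functor.map_comp, Functor.map_comp, hj,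
      ← Category.assoc, ← AlgGrp.Action.bc_act, β.comm, AlgGrp.Action.bc_act, ← reassoc_of% hμ, hj]
  let α : NonAbH1.EquivIso P.act P'.act :=
    ⟨⟨f, g, hfg, hgf⟩, over_hom_ext t hq htor _ _ (hbc _ α' hf') (hbc _ αU hfU)⟩
  refine ⟨α, ⟨Iso.ext hfU, Iso.ext hf'⟩, ?_⟩
  rintro ⟨i, hi⟩ ⟨h1, h2⟩
  have : i = α.iso := Iso.ext (over_hom_ext t hq htor _ _
    ((congrArg Iso.hom h2).trans hf'.symm) ((congrArg Iso.hom h1).trans hfU.symm))
  subst this
  rfl

end Groth.Agent.NonAbGlueLib
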