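import Groth.Agent.NonAbGlueLib.Basic
import Groth.Agent.PrincBundLib.Descends
import Groth.Agent.SchDesc.QADescends
import Groth.Agent.FpqcDesc.Basic
import Groth.Agent.ASp.Fpqc
import Groth.Agent.S2338
import Groth.Prelude.Def_ActBC

/-!
# Torsors under flat quasi-affine groups over an affine base; equivariant isomorphisms glue
-/

set_option autoImplicit false
set_option backward.isDefEq.respectTransparency false
set_option backward.isDefEq.respectTransparency.types false
set_option linter.style.haveILetI false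
set_option maxHeartbeats 800000

universe u

open CategoryTheory CategoryTheory.Limits MonoidalCategory CartesianMonoidalCategory MonObj AlgebraicGeometry

noncomputable section

namespace Groth.Agent.NonAbGlueLib

variable {S : Scheme.{u}} [IsAffine S] {G X : Over S} [GrpObj G]

/-- A property descending along fpqc maps passes from the group to torsors over an affine base. -/
theorem property_of_torsor_affine (P : MorphismProperty Scheme.{u}) [P.RespectsIso]
    [P.DescendsAlong (@Surjective ⊓ @Flat ⊓ @QuasiCompact)]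
    (a : AlgGrp.Action G X) (ha : NonAbH1.IsTorsorFor Scheme.fpqcPrecoverage a)
    (hG : ∀ {Q : Scheme.{u}} (q : Q ⟶ S) [IsAffine Q], P (pullback.snd G.hom q)) : P X.hom := by
  obtain ⟨Q, q₀, s, hsq, hqf, hqs, hqc⟩ :=
    PrincBundLib.exists_affine_section ha.2 (U := (⊤ : S.Opens)) (isAffineOpen_top S)
  haveI : IsAffine (⊤ : S.Opens).toScheme := isAffineOpen_top S
  let q := q₀ ≫ (⊤ : S.Opens).ι
  haveI : IsIso (⊤ : S.Opens).ι := by
    rw [← Scheme.topIso_hom]; infer_instance
  haveI : QuasiCompact q := inferInstanceAs (QuasiCompact (q₀ ≫ (⊤ : S.Opens).ι))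
  haveI : CompactSpace Q := QuasiCompact.compactSpace_of_compactSpace q
  obtain ⟨Q', c, hQ', hc, hcs⟩ : ∃ (Q' : Scheme.{u}) (c : Q' ⟶ Q), IsAffine Q' ∧ Flat c ∧ Surjective c := by
    let 𝒱 := Q.affineCover.finiteSubcover
    exact ⟨∐ 𝒱.X, Sigma.desc 𝒱.f, inferInstance, IsZariskiLocalAtSource.sigmaDesc fun i => inferInstance,
      ⟨fun z => by
        obtain ⟨y, hy⟩ := 𝒱.covers z
        exact ⟨Sigma.ι 𝒱.X _ y, by rw [← Scheme.Hom.comp_apply, Sigma.ι_desc]; exact hy⟩⟩⟩
  let q' := c ≫ q
  haveI : Surjective q' := inferInstanceAs (Surjective (c ≫ q₀ ≫ (⊤ : S.Opens).ι))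
  haveI : Flat q' := inferInstanceAs (Flat (c ≫ q₀ ≫ (⊤ : S.Opens).ι))
  haveI : QuasiCompact q' := inferInstance
  let e : Over.mk q' ⟶ X := Over.homMk (c ≫ s) (by rw [Category.assoc, hsq]; rfl)
  haveI : IsIso (lift ((G ◁ e) ≫ a.act) (snd G (Over.mk q'))) :=
    (PrincBundLib.isIso_lift_snd_iff _).mpr fun T x w => by
      simp only [PrincBundLib.orbit_eq]
      exact (PrincBundLib.isIso_lift_snd_iff a.act).mp ha.1 T x _
  let Φ := asIso (lift ((G ◁ e) ≫ a.act) (snd G (Over.mk q')))
  have h1 : Φ.hom.left ≫ pullback.snd X.hom q' = pullback.snd G.hom q' :=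
    congrArg (fun m => m.left) (lift_snd ((G ◁ e) ≫ a.act) (snd G (Over.mk q')))
  haveI : IsIso Φ.hom.left := inferInstanceAs (IsIso ((Over.forget S).map Φ.hom))
  have hX : P (pullback.snd X.hom q') := by
    refine (P.cancel_left_of_respectsIso Φ.hom.left _).mp ?_
    rw [h1]
    exact hG q'
  exact MorphismProperty.of_isPullback_of_descendsAlong (P := P) (Q := @Surjective ⊓ @Flat ⊓ @QuasiCompact)
    (IsPullback.of_hasPullback X.hom q').flip ⟨⟨‹_›, ‹_›⟩, ‹_›⟩ hX

theorem flat_of_torsor [Flat G.hom] (P : NonAbH1.TorsorSch G Scheme.fppfPrecoverage) : Flat P.X.hom :=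
  property_of_torsor_affine @Flat P.act ⟨P.isTorsor.1,
    let ⟨R, hR, h⟩ := P.isTorsor.2; ⟨R, Scheme.fppfPrecoverage_le_fpqcPrecoverage _ hR, h⟩⟩ fun _ => inferInstance

theorem isQuasiAffine_of_torsor [G.left.IsQuasiAffine] (P : NonAbH1.TorsorSch G Scheme.fppfPrecoverage) :
    P.X.left.IsQuasiAffine := by
  haveI := @Groth.Agent.SchDesc.isQuasiAffine_descends.{u}
  haveI : MorphismProperty.RespectsIso (fun _ _ f => Mor2.IsQuasiAffine f : MorphismProperty Scheme.{u}) := by
    refine MorphismProperty.RespectsIso.mk _ ?_ ?_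
    · exact fun e f hf => Groth.Agent.S2338.result e.hom f (isQuasiAffine_of_isIso e.hom) hf
    · exact fun e f hf => Groth.Agent.S2338.result f e.hom hf (isQuasiAffine_of_isIso e.hom)
  refine QAffLib.qa_source P.X.hom (property_of_torsor_affine
    (fun _ _ f => Mor2.IsQuasiAffine f : MorphismProperty Scheme.{u}) P.act ⟨P.isTorsor.1,
    let ⟨R, hR, h⟩ := P.isTorsor.2; ⟨R, Scheme.fppfPrecoverage_le_fpqcPrecoverage _ hR, h⟩⟩ fun {Q} q _ => ?_)
  haveI : IsAffineHom (pullback.fst G.hom q) := MorphismProperty.pullback_fst (P := @IsAffineHom) _ _ inferInstance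
  haveI : (pullback G.hom q).IsQuasiAffine := QAffLib.qa_source (pullback.fst G.hom q) ⟨inferInstance, fun V hV => by
    haveI : IsAffine (pullback.fst G.hom q ⁻¹ᵁ V : Scheme.{u}) := hV.preimage _
    infer_instance⟩
  exact isQuasiAffine_of_source (pullback.snd G.hom q)
where
  isQuasiAffine_of_source {Y Q : Scheme.{u}} [Y.IsQuasiAffine] [IsAffine Q] (f : Y ⟶ Q) : Mor2.IsQuasiAffine f := by
    haveI : QuasiCompact f := by
      haveI := Y.toSpecΓ.isOpenEmbedding
      infer_instance
    exact ⟨inferInstance, fun V hV => by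
      haveI : CompactSpace (f ⁻¹ᵁ V).toScheme := isCompact_iff_compactSpace.mp (QuasiCompact.isCompact_preimage _ V.isOpen hV.isCompact)
      haveI : IsCompact ((f ⁻¹ᵁ V : Y.Opens) : Set Y) := QuasiCompact.isCompact_preimage _ V.isOpen hV.isCompact
      exact Scheme.IsQuasiAffine.of_isImmersion (f ⁻¹ᵁ V).ι⟩
  isQuasiAffine_of_isIso {Y Q : Scheme.{u}} (e : Y ⟶ Q) [IsIso e] : Mor2.IsQuasiAffine e :=
    ⟨inferInstance, fun V hV => by
      haveI : IsAffine (e ⁻¹ᵁ V : Scheme.{u}) := hV.preimage e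
      infer_instance⟩

end Groth.Agent.NonAbGlueLib
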